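import Groth.Agent.InvExtend.Integral
import Mathlib.AlgebraicGeometry.IdealSheaf.Subscheme
import Mathlib.RingTheory.Ideal.Quotient.Operations

/-! Stalks of ideal sheaves as ideals of local rings. -/

set_option linter.style.haveILetI false

namespace Groth.Agent.DivCodimTwo

open AlgebraicGeometry CategoryTheory TopologicalSpace

universe u

variable {X : Scheme.{u}}

/-- An affine neighbourhood. -/
noncomputable def aff (x : X) : X.affineOpens :=
  ⟨(exists_isAffineOpen_mem_and_subset (U := ⊤) (Opens.mem_top x)).choose,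
    (exists_isAffineOpen_mem_and_subset (U := ⊤) (Opens.mem_top x)).choose_spec.1⟩

lemma mem_aff (x : X) : x ∈ (aff x).1 :=
  (exists_isAffineOpen_mem_and_subset (U := ⊤) (Opens.mem_top x)).choose_spec.2.1

/-- The stalk of an ideal sheaf, as an ideal of the local ring. -/
noncomputable def gI (I : X.IdealSheafData) (x : X) : Ideal (X.presheaf.stalk x) :=
  (I.ideal (aff x)).map (X.presheaf.germ (aff x).1 x (mem_aff x)).hom

lemma germ_res_hom {U V : X.Opens} (h : V ≤ U) (x : X) (hx : x ∈ V) :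
    (X.presheaf.germ V x hx).hom.comp (X.presheaf.map (homOfLE h).op).hom =
      (X.presheaf.germ U x (h hx)).hom :=
  RingHom.ext fun a => TopCat.Presheaf.germ_res_apply X.presheaf (homOfLE h) x hx a

lemma map_germ_eq_of_le (I : X.IdealSheafData) {V W : X.affineOpens} (h : V.1 ≤ W.1) (x : X) (hx : x ∈ V.1) :
    (I.ideal W).map (X.presheaf.germ W.1 x (h hx)).hom = (I.ideal V).map (X.presheaf.germ V.1 x hx).hom := by
  rw [← I.map_ideal' (U := V) (V := W) (homOfLE h).op, Ideal.map_map, germ_res_hom h x hx]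

lemma gI_eq (I : X.IdealSheafData) (W : X.affineOpens) {x : X} (hx : x ∈ W.1) :
    gI I x = (I.ideal W).map (X.presheaf.germ W.1 x hx).hom := by
  obtain ⟨f, g, hfg, hxf⟩ := exists_basicOpen_le_affine_inter (aff x).2 W.2 x ⟨mem_aff x, hx⟩
  let D : X.affineOpens := ⟨X.basicOpen f, (aff x).2.basicOpen f⟩
  unfold gI
  rw [map_germ_eq_of_le I (V := D) (X.basicOpen_le f) x hxf,
    map_germ_eq_of_le I (V := D) (W := W) (hfg.trans_le (X.basicOpen_le g)) x hxf]

lemma gI_mul (I J : X.IdealSheafData) (x : X) : gI (I * J) x = gI I x * gI J x := by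
  rw [gI, gI, gI, Scheme.IdealSheafData.ideal_mul, Pi.mul_apply, Ideal.map_mul]

lemma gI_pow (I : X.IdealSheafData) (n : ℕ) (x : X) : gI (I ^ n) x = gI I x ^ n := by
  rw [gI, gI, Scheme.IdealSheafData.ideal_pow, Pi.pow_apply, Ideal.map_pow]

lemma gI_one (x : X) : gI (1 : X.IdealSheafData) x = ⊤ := by
  change Ideal.map _ ((⊤ : X.IdealSheafData).ideal (aff x)) = ⊤
  rw [Scheme.IdealSheafData.ideal_top]
  exact Ideal.map_top _

lemma mem_support_iff_le (I : X.IdealSheafData) (W : X.affineOpens) {x : X} (hx : x ∈ W.1) :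
    x ∈ I.support ↔ I.ideal W ≤ (W.2.primeIdealOf ⟨x, hx⟩).asIdeal := by
  rw [Scheme.IdealSheafData.mem_support_iff_of_mem hx, Scheme.mem_zeroLocus_iff, SetLike.le_def]
  exact forall₂_congr fun f _ => by rw [InvExtend.mem_basicOpen_iff W.2 hx f, not_not]

lemma mem_gI_iff (I : X.IdealSheafData) (W : X.affineOpens) {x : X} (hx : x ∈ W.1) (b : Γ(X, W.1)) :
    X.presheaf.germ W.1 x hx b ∈ gI I x ↔
      ∃ t : Γ(X, W.1), t ∉ (W.2.primeIdealOf ⟨x, hx⟩).asIdeal ∧ t * b ∈ I.ideal W := by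
  letI := TopCat.Presheaf.algebra_section_stalk X.presheaf (⟨x, hx⟩ : W.1)
  haveI := W.2.isLocalization_stalk ⟨x, hx⟩
  rw [gI_eq I W hx]
  refine (IsLocalization.algebraMap_mem_map_algebraMap_iff
    (W.2.primeIdealOf ⟨x, hx⟩).asIdeal.primeCompl (X.presheaf.stalk x) (I.ideal W) b).trans ?_
  exact Iff.rfl

lemma gI_eq_top_iff (I : X.IdealSheafData) (x : X) : gI I x = ⊤ ↔ x ∉ I.support := by
  rw [mem_support_iff_le I (aff x) (mem_aff x), SetLike.le_def, Ideal.eq_top_iff_one,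
    ← map_one (X.presheaf.germ (aff x).1 x (mem_aff x)).hom]
  refine (mem_gI_iff I (aff x) (mem_aff x) 1).trans ⟨?_, fun h => ?_⟩
  · rintro ⟨t, ht, htI⟩ hle
    rw [mul_one] at htI
    exact ht (hle htI)
  · push Not at h
    obtain ⟨t, htI, ht⟩ := h
    exact ⟨t, ht, by rwa [mul_one]⟩

lemma ideal_le_of_gI_le (I J : X.IdealSheafData) (W : X.affineOpens)
    (h : ∀ x ∈ W.1, gI I x ≤ gI J x) : I.ideal W ≤ J.ideal W := by
  intro b hb
  by_contra hbJ
  let C : Ideal Γ(X, W.1) := Submodule.comap (LinearMap.lsmul Γ(X, W.1) Γ(X, W.1) b) (J.ideal W)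
  have hC : C ≠ ⊤ := fun hC => hbJ (by
    have : b * 1 ∈ J.ideal W := (Ideal.eq_top_iff_one C).mp hC
    rwa [mul_one] at this)
  obtain ⟨m, hm, hCm⟩ := C.exists_le_maximal hC
  let q : PrimeSpectrum Γ(X, W.1) := ⟨m, hm.isPrime⟩
  have hxW := InvExtend.pt_mem W.2 q
  have hbI : X.presheaf.germ W.1 _ hxW b ∈ gI I (InvExtend.pt W.2 q) := by
    rw [gI_eq I W hxW]
    exact Ideal.mem_map_of_mem _ hb
  obtain ⟨t, ht, htJ⟩ := (mem_gI_iff J W hxW b).mp (h _ hxW hbI)
  refine ht ((congrArg PrimeSpectrum.asIdeal (InvExtend.primeIdealOf_pt W.2 q)).ge (hCm ?_))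
  change b * t ∈ J.ideal W
  rwa [mul_comm]

lemma le_of_gI_le (I J : X.IdealSheafData) (h : ∀ x, gI I x ≤ gI J x) : I ≤ J :=
  fun W => ideal_le_of_gI_le I J W fun x _ => h x

lemma exists_affine_ideal_le [IsLocallyNoetherian X] (I J : X.IdealSheafData) (W : X.affineOpens) {x : X}
    (hx : x ∈ W.1) (h : gI I x ≤ gI J x) :
    ∃ f : Γ(X, W.1), x ∈ X.basicOpen f ∧ ∀ b ∈ I.ideal W, f * b ∈ J.ideal W := by
  classical
  haveI : IsNoetherianRing Γ(X, W.1) := IsLocallyNoetherian.component_noetherian (X := X) W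
  obtain ⟨S, hS⟩ := IsNoetherian.noetherian (I.ideal W)
  have hb : ∀ b : S, ∃ t : Γ(X, W.1), t ∉ (W.2.primeIdealOf ⟨x, hx⟩).asIdeal ∧ t * b.1 ∈ J.ideal W :=
    fun b => (mem_gI_iff J W hx b.1).mp (h (by
      rw [gI_eq I W hx]
      exact Ideal.mem_map_of_mem _ (hS ▸ Submodule.subset_span b.2)))
  choose t ht htJ using hb
  refine ⟨∏ b, t b, (InvExtend.mem_basicOpen_iff W.2 hx _).mpr fun H => ?_, fun b hb => ?_⟩
  · obtain ⟨b, -, hb⟩ := (Ideal.IsPrime.prod_mem_iff (hp := inferInstance)).mp H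
    exact ht b hb
  · rw [← hS] at hb
    induction hb using Submodule.span_induction with
    | mem b hb =>
      obtain ⟨c, hc⟩ := Finset.dvd_prod_of_mem t (Finset.mem_univ ⟨b, hb⟩)
      rw [hc, mul_right_comm]
      exact Ideal.mul_mem_right _ _ (htJ ⟨b, hb⟩)
    | zero => rw [mul_zero]; exact zero_mem _
    | add a b _ _ ha hb => rw [mul_add]; exact add_mem ha hb
    | smul r a _ ha => rw [smul_eq_mul, mul_left_comm]; exact Ideal.mul_mem_left _ _ ha

end Groth.Agent.DivCodimTwo
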