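import Groth.Agent.DivCodimTwo.StalkIdeal
import Groth.Prelude.Def_BlowUp2
import Mathlib.RingTheory.Ideal.KrullsHeightTheorem
import Mathlib.RingTheory.Filtration

/-! Integral effective Cartier divisors: the local ring at the generic point and orders along them. -/

set_option linter.style.haveILetI false

namespace Groth.Agent.DivCodimTwo

open AlgebraicGeometry CategoryTheory TopologicalSpace IsLocalRing

universe u

section Algebra

variable {R : Type u} [CommRing R] [IsLocalRing R] [IsNoetherianRing R] {d : R}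

/-- In a Noetherian local ring with principal maximal ideal every nonzero ideal is a power of it. -/
lemma exists_eq_pow_of_maximal_eq_span (hm : maximalIdeal R = Ideal.span {d}) (J : Ideal R) (hJ : J ≠ ⊥) :
    ∃ n : ℕ, J = Ideal.span {d} ^ n := by
  classical
  have hne : Ideal.span {d} ≠ ⊤ := hm ▸ (maximalIdeal.isMaximal R).ne_top
  have hex : ∃ n : ℕ, ¬ J ≤ Ideal.span {d} ^ n := by
    by_contra hc
    push Not at hc
    exact hJ (eq_bot_iff.mpr ((le_iInf hc).trans (Ideal.iInf_pow_eq_bot_of_isLocalRing _ hne).le))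
  obtain ⟨m, hm'⟩ : ∃ m, Nat.find hex = m + 1 := by
    rcases Nat.eq_zero_or_pos (Nat.find hex) with h0 | h0
    · exact absurd (by rw [h0, pow_zero, Ideal.one_eq_top]; exact le_top) (Nat.find_spec hex)
    · exact ⟨_, (Nat.succ_pred_eq_of_pos h0).symm⟩
  have h1 : J ≤ Ideal.span {d} ^ m := not_not.mp (Nat.find_min hex (by omega))
  have h2 : ¬ J ≤ Ideal.span {d} ^ (m + 1) := hm' ▸ Nat.find_spec hex
  obtain ⟨j, hjJ, hj⟩ := SetLike.not_le_iff_exists.mp h2
  have hjm := h1 hjJ
  rw [Ideal.span_singleton_pow, Ideal.mem_span_singleton] at hjm hj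
  obtain ⟨u, rfl⟩ := hjm
  have hu : IsUnit u := by
    rw [← notMem_maximalIdeal, hm, Ideal.mem_span_singleton]
    rintro ⟨v, rfl⟩
    exact hj ⟨v, by ring⟩
  refine ⟨m, le_antisymm h1 ?_⟩
  rw [Ideal.span_singleton_pow, Ideal.span_singleton_le_iff_mem]
  obtain ⟨u, rfl⟩ := hu
  simpa [mul_assoc] using J.mul_mem_right (↑u⁻¹ : R) hjJ

lemma noZeroDivisors_of_maximal_eq_span (hm : maximalIdeal R = Ideal.span {d}) (hd : d ∈ nonZeroDivisors R) :
    NoZeroDivisors R where
  eq_zero_or_eq_zero_of_mul_eq_zero {x y} h := by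
    rcases eq_or_ne x 0 with hx | hx
    · exact Or.inl hx
    refine Or.inr ?_
    obtain ⟨n, hn⟩ := exists_eq_pow_of_maximal_eq_span hm (Ideal.span {x}) (by simpa using hx)
    rw [Ideal.span_singleton_pow] at hn
    obtain ⟨c, hc⟩ := Ideal.mem_span_singleton.mp (hn.ge (Ideal.mem_span_singleton_self _))
    refine mem_nonZeroDivisors_iff_right.mp (pow_mem hd n) y ?_
    rw [hc, mul_comm y, mul_right_comm, h, zero_mul]

end Algebra

variable {X : Scheme.{u}}

/-- The generic point of an integral closed subscheme. -/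
noncomputable def gen (D : X.IdealSheafData) [IsIntegral D.subscheme] : X :=
  D.subschemeι (genericPoint ↥D.subscheme)

variable (D : X.IdealSheafData) [IsIntegral D.subscheme]

lemma gen_mem : gen D ∈ D.support := by
  change gen D ∈ (D.support : Set X)
  rw [← D.range_subschemeι]
  exact Set.mem_range_self _

lemma gen_specializes {x : X} (hx : x ∈ D.support) : gen D ⤳ x := by
  change x ∈ (D.support : Set X) at hx
  rw [← D.range_subschemeι] at hx
  obtain ⟨z, rfl⟩ := hx
  exact (genericPoint_specializes z).map D.subschemeι.continuous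

lemma ideal_eq_primeIdealOf (W : X.affineOpens) (hW : gen D ∈ W.1) :
    D.ideal W = (W.2.primeIdealOf ⟨gen D, hW⟩).asIdeal := by
  refine le_antisymm ((mem_support_iff_le D W hW).mp (gen_mem D)) ?_
  haveI : Nonempty (D.subschemeι ⁻¹ᵁ W.1 : D.subscheme.Opens) := ⟨⟨genericPoint ↥D.subscheme, hW⟩⟩
  haveI : IsDomain Γ(D.subscheme, D.subschemeι ⁻¹ᵁ W.1) := IsIntegral.component_integral _
  haveI : (D.ideal W).IsPrime := D.ker_subschemeι_app W ▸ RingHom.ker_isPrime (D.subschemeι.app W.1).hom
  let q : PrimeSpectrum Γ(X, W.1) := ⟨D.ideal W, ‹_›⟩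
  have hq : InvExtend.pt W.2 q ∈ D.support := by
    exact (mem_support_iff_le D W (InvExtend.pt_mem W.2 q)).mpr
      (congrArg PrimeSpectrum.asIdeal (InvExtend.primeIdealOf_pt W.2 q)).ge
  have h := (InvExtend.specializes_iff W.2 (InvExtend.pt_mem W.2 q) hW).mp (gen_specializes D hq)
  exact h.trans (congrArg PrimeSpectrum.asIdeal (InvExtend.primeIdealOf_pt W.2 q)).le

lemma gI_gen : gI D (gen D) = maximalIdeal (X.presheaf.stalk (gen D)) := by
  let W := aff (gen D)
  letI := TopCat.Presheaf.algebra_section_stalk X.presheaf (⟨gen D, mem_aff _⟩ : W.1)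
  haveI := W.2.isLocalization_stalk ⟨gen D, mem_aff _⟩
  rw [gI_eq D W (mem_aff _), ideal_eq_primeIdealOf D W (mem_aff _)]
  exact IsLocalization.AtPrime.map_eq_maximalIdeal (W.2.primeIdealOf ⟨gen D, mem_aff _⟩).asIdeal (X.presheaf.stalk (gen D))

omit [IsIntegral D.subscheme] in
lemma exists_span_gI (hD : BlowUp.IsEffCartierIdeal D) (x : X) :
    ∃ d : X.presheaf.stalk x, d ∈ nonZeroDivisors (X.presheaf.stalk x) ∧ gI D x = Ideal.span {d} := by
  obtain ⟨V, hxV, f, hf, hV⟩ := hD x
  refine ⟨X.presheaf.germ V.1 x hxV f, ?_, ?_⟩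
  · letI := TopCat.Presheaf.algebra_section_stalk X.presheaf (⟨x, hxV⟩ : V.1)
    haveI := V.2.isLocalization_stalk ⟨x, hxV⟩
    exact IsLocalization.map_nonZeroDivisors_le (V.2.primeIdealOf ⟨x, hxV⟩).asIdeal.primeCompl
      (X.presheaf.stalk x) (Submonoid.mem_map_of_mem _ hf)
  · rw [gI_eq D V hxV, hV, Ideal.map_span, Set.image_singleton]

variable [IsLocallyNoetherian X] (hD : BlowUp.IsEffCartierIdeal D)
include hD

lemma exists_gI_eq_pow (J : Ideal (X.presheaf.stalk (gen D))) (hJ : J ≠ ⊥) :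
    ∃ n : ℕ, J = maximalIdeal (X.presheaf.stalk (gen D)) ^ n := by
  obtain ⟨d, -, hd⟩ := exists_span_gI D hD (gen D)
  rw [gI_gen] at hd
  rw [hd]
  exact exists_eq_pow_of_maximal_eq_span hd J hJ

lemma noZeroDivisors_gen : NoZeroDivisors (X.presheaf.stalk (gen D)) := by
  obtain ⟨d, hd0, hd⟩ := exists_span_gI D hD (gen D)
  rw [gI_gen] at hd
  exact noZeroDivisors_of_maximal_eq_span hd hd0

lemma ringKrullDim_gen : ringKrullDim (X.presheaf.stalk (gen D)) = 1 := by
  obtain ⟨d, hd0, hd⟩ := exists_span_gI D hD (gen D)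
  rw [gI_gen] at hd
  have hne : ¬ IsUnit d := fun h => (maximalIdeal.isMaximal (X.presheaf.stalk (gen D))).ne_top
    (hd.trans (Ideal.span_singleton_eq_top.mpr h))
  rw [← maximalIdeal_height_eq_ringKrullDim, hd,
    Ideal.height_span_singleton_eq_one_of_mem_nonZeroDivisors hd0 hne]
  rfl

omit hD in
/-- Two integral effective Cartier divisors with the generic point of one on the other are equal there. -/
lemma gen_eq_of_mem (D' : X.IdealSheafData) [IsIntegral D'.subscheme] (hD : BlowUp.IsEffCartierIdeal D)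
    (hD' : BlowUp.IsEffCartierIdeal D') (h : gen D ∈ D'.support) : gen D' = gen D := by
  let W := aff (gen D)
  have hη : gen D ∈ W.1 := mem_aff _
  have hsp := gen_specializes D' h
  have hη' : gen D' ∈ W.1 := hsp.mem_open W.1.2 hη
  letI := TopCat.Presheaf.algebra_section_stalk X.presheaf (⟨gen D, hη⟩ : W.1)
  haveI := W.2.isLocalization_stalk ⟨gen D, hη⟩
  let p := (W.2.primeIdealOf ⟨gen D, hη⟩).asIdeal
  let p' := (W.2.primeIdealOf ⟨gen D', hη'⟩).asIdeal
  have hle : p' ≤ p := (InvExtend.specializes_iff W.2 hη hη').mp hsp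
  have hdisj : Disjoint (p.primeCompl : Set Γ(X, W.1)) p' :=
    Set.disjoint_left.mpr fun a ha ha' => ha (hle ha')
  have hgI : gI D' (gen D) = p'.map (algebraMap Γ(X, W.1) (X.presheaf.stalk (gen D))) := by
    rw [gI_eq D' W hη, ideal_eq_primeIdealOf D' W hη']
    rfl
  haveI : (gI D' (gen D)).IsPrime :=
    hgI ▸ IsLocalization.isPrime_of_isPrime_disjoint p.primeCompl _ p' inferInstance hdisj
  obtain ⟨d', hd0', hd'⟩ := exists_span_gI D' hD' (gen D)
  have hne : gI D' (gen D) ≠ ⊥ := fun h0 => by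
    rw [hd', Ideal.span_singleton_eq_bot] at h0
    exact nonZeroDivisors.ne_zero hd0' h0
  have hmax : gI D' (gen D) = maximalIdeal (X.presheaf.stalk (gen D)) := by
    obtain ⟨n, hn⟩ := exists_gI_eq_pow D hD _ hne
    refine le_antisymm (le_maximalIdeal (Ideal.IsPrime.ne_top ‹_›)) fun r hr => ?_
    refine Ideal.IsPrime.mem_of_pow_mem ‹_› n ?_
    rw [hn]
    exact Ideal.pow_mem_pow hr n
  have hpp : p' = p := by
    rw [← IsLocalization.under_map_of_isPrime_disjoint p.primeCompl (X.presheaf.stalk (gen D)) inferInstance hdisj,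
      ← IsLocalization.AtPrime.under_maximalIdeal (X.presheaf.stalk (gen D)) p, ← hmax, hgI]
  have e : W.2.primeIdealOf ⟨gen D', hη'⟩ = W.2.primeIdealOf ⟨gen D, hη⟩ := PrimeSpectrum.ext hpp
  exact (W.2.fromSpec_primeIdealOf ⟨gen D', hη'⟩).symm.trans
    ((congrArg W.2.fromSpec e).trans (W.2.fromSpec_primeIdealOf ⟨gen D, hη⟩))

omit hD [IsLocallyNoetherian X] in
/-- An element of the local ring at `x ∈ D` which lies in the `a`-th power of the maximal ideal at
the generic point of `D` is divisible by the `a`-th power of the equation. -/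
lemma mem_gI_pow_of_germ_gen [IsLocallyNoetherian X] (hD : BlowUp.IsEffCartierIdeal D) {x : X}
    (hx : x ∈ D.support) (a : ℕ) (r : X.presheaf.stalk x)
    (hr : X.presheaf.stalkSpecializes (gen_specializes D hx) r ∈ maximalIdeal (X.presheaf.stalk (gen D)) ^ a) :
    r ∈ gI D x ^ a := by
  let W := aff x
  have hxW : x ∈ W.1 := mem_aff x
  have hη : gen D ∈ W.1 := (gen_specializes D hx).mem_open W.1.2 hxW
  letI := TopCat.Presheaf.algebra_section_stalk X.presheaf (⟨x, hxW⟩ : W.1)
  haveI := W.2.isLocalization_stalk ⟨x, hxW⟩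
  let p := (W.2.primeIdealOf ⟨x, hxW⟩).asIdeal
  let P := (W.2.primeIdealOf ⟨gen D, hη⟩).asIdeal
  have hPp : P ≤ p := (InvExtend.specializes_iff W.2 hxW hη).mp (gen_specializes D hx)
  have hgx : gI D x = P.map (algebraMap Γ(X, W.1) (X.presheaf.stalk x)) := by
    rw [gI_eq D W hxW, ideal_eq_primeIdealOf D W hη]
    rfl
  have hdisj : Disjoint (p.primeCompl : Set Γ(X, W.1)) P := Set.disjoint_left.mpr fun b hb hb' => hb (hPp hb')
  haveI hprime : (gI D x).IsPrime :=
    hgx ▸ IsLocalization.isPrime_of_isPrime_disjoint p.primeCompl _ P inferInstance hdisj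
  obtain ⟨f, t, rfl⟩ := IsLocalization.exists_mk'_eq p.primeCompl r
  have hf : algebraMap Γ(X, W.1) (X.presheaf.stalk x) f ∈ gI D x ^ a := by
    have hfη : X.presheaf.germ W.1 (gen D) hη f ∈ gI (D ^ a) (gen D) := by
      rw [gI_pow, gI_gen]
      have e : X.presheaf.germ W.1 (gen D) hη f =
          X.presheaf.stalkSpecializes (gen_specializes D hx) (IsLocalization.mk' (X.presheaf.stalk x) f t) *
            X.presheaf.stalkSpecializes (gen_specializes D hx) (X.presheaf.germ W.1 x hxW t.1) := by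
        rw [← map_mul, show IsLocalization.mk' (X.presheaf.stalk x) f t * X.presheaf.germ W.1 x hxW t.1 =
          X.presheaf.germ W.1 x hxW f from IsLocalization.mk'_spec (X.presheaf.stalk x) f t]
        exact (TopCat.Presheaf.germ_stalkSpecializes_apply X.presheaf hxW (gen_specializes D hx) f).symm
      rw [e]
      exact Ideal.mul_mem_right _ _ hr
    obtain ⟨s, hs, hsf⟩ := (mem_gI_iff (D ^ a) W hη f).mp hfη
    have hsx : algebraMap Γ(X, W.1) (X.presheaf.stalk x) s ∉ gI D x := fun h => hs (by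
      have h' : s ∈ (gI D x).comap (algebraMap Γ(X, W.1) (X.presheaf.stalk x)) := h
      rw [hgx, ← Ideal.under_def,
        IsLocalization.under_map_of_isPrime_disjoint p.primeCompl (X.presheaf.stalk x) inferInstance hdisj] at h'
      exact h')
    have hmul : algebraMap Γ(X, W.1) (X.presheaf.stalk x) s * algebraMap Γ(X, W.1) (X.presheaf.stalk x) f ∈ gI D x ^ a := by
      rw [← map_mul, ← gI_pow, gI_eq (D ^ a) W hxW]
      exact Ideal.mem_map_of_mem _ hsf
    obtain ⟨d, hd0, hd⟩ := exists_span_gI D hD x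
    revert hsx hmul hprime
    rw [hd]
    intro hprime hsx hmul
    generalize algebraMap Γ(X, W.1) (X.presheaf.stalk x) f = y at hmul ⊢
    generalize algebraMap Γ(X, W.1) (X.presheaf.stalk x) s = v at hmul hsx
    rw [Ideal.span_singleton_pow, Ideal.mem_span_singleton] at hmul ⊢
    clear hfη hsf hr
    induction a generalizing y with
    | zero => rw [pow_zero]; exact one_dvd _
    | succ a ih =>
      obtain ⟨c, hc⟩ := hmul
      obtain ⟨y', rfl⟩ : d ∣ y := Ideal.mem_span_singleton.mp ((hprime.mem_or_mem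
        (Ideal.mem_span_singleton.mpr ⟨d ^ a * c, by rw [hc]; ring⟩)).resolve_left hsx)
      rw [pow_succ']
      refine mul_dvd_mul_left d (ih y' ⟨c, ?_⟩)
      exact (mul_right_mem_nonZeroDivisors_eq_zero_iff hd0 (x := v * y' - d ^ a * c)).mp
        (by linear_combination hc) |> sub_eq_zero.mp
  have ht : IsUnit (algebraMap Γ(X, W.1) (X.presheaf.stalk x) t) := IsLocalization.map_units _ t
  rw [← IsLocalization.mk'_spec (X.presheaf.stalk x) f t] at hf
  exact (Ideal.mul_unit_mem_iff_mem _ ht).mp hf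

end Groth.Agent.DivCodimTwo
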