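import Groth.Agent.DivCodimTwo.IntegralCartier
import Mathlib.RingTheory.Ideal.MinimalPrime.Noetherian
import Mathlib.AlgebraicGeometry.Noetherian

/-! The divisorial part of a closed subscheme contained in integral Cartier divisors up to codimension two. -/

set_option linter.style.haveILetI false

namespace Groth.Agent.DivCodimTwo

open AlgebraicGeometry CategoryTheory TopologicalSpace IsLocalRing

universe u

variable {X : Scheme.{u}}

lemma map_stalkSpecializes_gI (I : X.IdealSheafData) {x y : X} (h : y ⤳ x) :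
    (gI I x).map (X.presheaf.stalkSpecializes h).hom = gI I y := by
  have hy : y ∈ (aff x).1 := h.mem_open (aff x).1.2 (mem_aff x)
  rw [gI_eq I (aff x) (mem_aff x), gI_eq I (aff x) hy, Ideal.map_map]
  congr 1
  exact RingHom.ext fun a => TopCat.Presheaf.germ_stalkSpecializes_apply X.presheaf (mem_aff x) h a

lemma gI_prod {ι : Type*} (s : Finset ι) (D : ι → X.IdealSheafData) (n : ι → ℕ) (x : X) :
    gI (∏ i ∈ s, D i ^ n i) x = ∏ i ∈ s, gI (D i) x ^ n i := by
  classical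
  induction s using Finset.induction_on with
  | empty => rw [Finset.prod_empty, Finset.prod_empty, gI_one, Ideal.one_eq_top]
  | insert i s hi ih => rw [Finset.prod_insert hi, Finset.prod_insert hi, gI_mul, gI_pow, ih]

/-- Points of a closed set all whose maximal points have codimension at least two. -/
lemma two_le_ringKrullDim {Z : Set X} (hZ : IsClosed Z)
    (hcodim : ∀ z ∈ Z, (∀ y ∈ Z, y ⤳ z → y = z) → (2 : WithBot ℕ∞) ≤ ringKrullDim (X.presheaf.stalk z))
    {y : X} (hy : y ∈ Z) : (2 : WithBot ℕ∞) ≤ ringKrullDim (X.presheaf.stalk y) := by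
  let J := Scheme.IdealSheafData.vanishingIdeal (X := X) ⟨Z, hZ⟩
  have hJ : (J.support : Set X) = Z := Scheme.IdealSheafData.coe_support_vanishingIdeal _
  let W := aff y
  have hyW : y ∈ W.1 := mem_aff y
  obtain ⟨P, hP, hPy⟩ := Ideal.exists_minimalPrimes_le ((mem_support_iff_le J W hyW).mp (hJ.ge hy))
  haveI := hP.isPrime
  let q : PrimeSpectrum Γ(X, W.1) := ⟨P, ‹_›⟩
  have hgW : InvExtend.pt W.2 q ∈ W.1 := InvExtend.pt_mem W.2 q
  have hg : InvExtend.pt W.2 q ∈ Z := hJ.le ((mem_support_iff_le J W hgW).mpr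
    (hP.1.2.trans (congrArg PrimeSpectrum.asIdeal (InvExtend.primeIdealOf_pt W.2 q)).ge))
  have hmax : ∀ y' ∈ Z, y' ⤳ InvExtend.pt W.2 q → y' = InvExtend.pt W.2 q := by
    intro y' hy' hsp
    have hy'W : y' ∈ W.1 := hsp.mem_open W.1.2 hgW
    have h1 := ((InvExtend.specializes_iff W.2 hgW hy'W).mp hsp).trans
      (congrArg PrimeSpectrum.asIdeal (InvExtend.primeIdealOf_pt W.2 q)).le
    have h2 := hP.2 ⟨inferInstance, (mem_support_iff_le J W hy'W).mp (hJ.ge hy')⟩ h1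
    have e : W.2.primeIdealOf ⟨y', hy'W⟩ = q := PrimeSpectrum.ext (le_antisymm h1 h2)
    exact (W.2.fromSpec_primeIdealOf ⟨y', hy'W⟩).symm.trans (congrArg W.2.fromSpec e)
  refine (hcodim _ hg hmax).trans ?_
  letI := TopCat.Presheaf.algebra_section_stalk X.presheaf (⟨InvExtend.pt W.2 q, hgW⟩ : W.1)
  haveI := W.2.isLocalization_stalk ⟨InvExtend.pt W.2 q, hgW⟩
  rw [IsLocalization.AtPrime.ringKrullDim_eq_height (W.2.primeIdealOf ⟨InvExtend.pt W.2 q, hgW⟩).asIdeal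
    (X.presheaf.stalk (InvExtend.pt W.2 q))]
  letI := TopCat.Presheaf.algebra_section_stalk X.presheaf (⟨y, hyW⟩ : W.1)
  haveI := W.2.isLocalization_stalk ⟨y, hyW⟩
  rw [IsLocalization.AtPrime.ringKrullDim_eq_height (W.2.primeIdealOf ⟨y, hyW⟩).asIdeal (X.presheaf.stalk y)]
  refine WithBot.coe_le_coe.mpr (Ideal.height_mono ?_)
  exact (congrArg PrimeSpectrum.asIdeal (InvExtend.primeIdealOf_pt W.2 q)).le.trans hPy

theorem exists_divisorial_part [IsNoetherian X] (𝓩 : X.IdealSheafData)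
    {I : Type u} (𝓓 : I → X.IdealSheafData) (hD : ∀ i, BlowUp.IsEffCartierIdeal (𝓓 i))
    (hDint : ∀ i, IsIntegral (𝓓 i).subscheme) (Z' : Set X) (hZ' : IsClosed Z')
    (hcodim : ∀ z ∈ Z', (∀ y ∈ Z', y ⤳ z → y = z) → (2 : WithBot ℕ∞) ≤ ringKrullDim (X.presheaf.stalk z))
    (hcover : (𝓩.support : Set X) ⊆ Z' ∪ ⋃ i, ((𝓓 i).support : Set X)) :
    ∃ a : I →₀ ℕ, 𝓩 ≤ a.prod (fun i n => 𝓓 i ^ n) ∧
      ∃ U : X.Opens, (a.prod (fun i n => 𝓓 i ^ n)).comap U.ι = 𝓩.comap U.ι ∧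
        ∀ z ∈ (𝓩.support : Set X) \ (U : Set X),
          (2 : WithBot ℕ∞) ≤ ringKrullDim (X.presheaf.stalk z) := by
  classical
  haveI := hDint
  let η : I → X := fun i => gen (𝓓 i)
  have hηZ' : ∀ i, η i ∉ Z' := fun i h => by
    have h2 := two_le_ringKrullDim hZ' hcodim h
    rw [ringKrullDim_gen (𝓓 i) (hD i)] at h2
    exact absurd (show (2 : ℕ∞) ≤ 1 from WithBot.coe_le_coe.mp h2) (by norm_num)
  have hsame : ∀ i j, η i ∈ (𝓓 j).support → η j = η i := fun i j h =>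
    gen_eq_of_mem (𝓓 i) (𝓓 j) (hD i) (hD j) h
  -- the generic points inside `Z` are minimal over the ideal of `Z`
  have hmin : ∀ (W : X.affineOpens) (i : I) (hi : η i ∈ W.1) (Q : Ideal Γ(X, W.1)), Q.IsPrime →
      𝓩.ideal W ≤ Q → Q ≤ (W.2.primeIdealOf ⟨η i, hi⟩).asIdeal →
      (W.2.primeIdealOf ⟨η i, hi⟩).asIdeal ≤ Q := by
    intro W i hi Q hQ hIQ hQp
    let q : PrimeSpectrum Γ(X, W.1) := ⟨Q, hQ⟩
    have hqW := InvExtend.pt_mem W.2 q
    have eq := congrArg PrimeSpectrum.asIdeal (InvExtend.primeIdealOf_pt W.2 q)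
    have hsp : InvExtend.pt W.2 q ⤳ η i := (InvExtend.specializes_iff W.2 hi hqW).mpr (eq.le.trans hQp)
    rcases hcover ((mem_support_iff_le 𝓩 W hqW).mpr (hIQ.trans eq.ge)) with h | h
    · exact absurd (hsp.mem_closed hZ' h) (hηZ' i)
    · obtain ⟨j, hj⟩ := Set.mem_iUnion.mp h
      have hij := hsame i j (hsp.mem_closed (𝓓 j).support.isClosed hj)
      have hback : η i ⤳ InvExtend.pt W.2 q := hij ▸ gen_specializes (𝓓 j) hj
      exact ((InvExtend.specializes_iff W.2 hqW hi).mp hback).trans eq.le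
  have hne : ∀ i, gI 𝓩 (η i) ≠ ⊥ := by
    intro i h0
    let W := aff (η i)
    have hi : η i ∈ W.1 := mem_aff _
    haveI := noZeroDivisors_gen (𝓓 i) (hD i)
    haveI : IsDomain (X.presheaf.stalk (η i)) := NoZeroDivisors.to_isDomain _
    let g := (X.presheaf.germ W.1 (η i) hi).hom
    have hQ : (RingHom.ker g).IsPrime := RingHom.ker_isPrime g
    letI := TopCat.Presheaf.algebra_section_stalk X.presheaf (⟨η i, hi⟩ : W.1)
    haveI := W.2.isLocalization_stalk ⟨η i, hi⟩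
    have hker : RingHom.ker g ≤ (W.2.primeIdealOf ⟨η i, hi⟩).asIdeal := fun b hb => by
      by_contra hbp
      have hu := IsLocalization.map_units (X.presheaf.stalk (η i))
        (⟨b, hbp⟩ : (W.2.primeIdealOf ⟨η i, hi⟩).asIdeal.primeCompl)
      exact hu.ne_zero hb
    have hIQ : 𝓩.ideal W ≤ RingHom.ker g := fun b hb => by
      have : g b ∈ gI 𝓩 (η i) := by rw [gI_eq 𝓩 W hi]; exact Ideal.mem_map_of_mem g hb
      rwa [h0] at this
    have hmax : gI (𝓓 i) (η i) = ⊥ := by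
      rw [gI_eq _ W hi, ideal_eq_primeIdealOf (𝓓 i) W hi, eq_bot_iff, Ideal.map_le_iff_le_comap]
      exact hmin W i hi _ hQ hIQ hker
    obtain ⟨d, hd, hd'⟩ := exists_span_gI (𝓓 i) (hD i) (η i)
    rw [hmax, eq_comm, Ideal.span_singleton_eq_bot] at hd'
    exact nonZeroDivisors.ne_zero hd hd'
  choose n hn using fun i => exists_gI_eq_pow (𝓓 i) (hD i) _ (hne i)
  have hfin : {p | ∃ i, η i = p ∧ p ∈ 𝓩.support}.Finite := by
    obtain ⟨T, hT⟩ := isCompact_univ.elim_finite_subcover (fun W : X.affineOpens => (W.1 : Set X))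
      (fun W => W.1.2) (fun x _ => Set.mem_iUnion.mpr ⟨aff x, mem_aff x⟩)
    refine ((T.finite_toSet.biUnion (t := fun W => InvExtend.pt W.2 '' {q | q.asIdeal ∈ (𝓩.ideal W).minimalPrimes})
      fun W _ => Set.Finite.image _ ?_)).subset ?_
    · haveI : IsNoetherianRing Γ(X, W.1) := IsLocallyNoetherian.component_noetherian (X := X) W
      exact ((𝓩.ideal W).finite_minimalPrimes_of_isNoetherianRing Γ(X, W.1)).preimage
        (fun a _ b _ h => PrimeSpectrum.ext h)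
    · rintro _ ⟨i, rfl, hiZ⟩
      obtain ⟨W, hW⟩ := Set.mem_iUnion.mp (hT (Set.mem_univ (η i)))
      obtain ⟨hWT, hiW⟩ := Set.mem_iUnion.mp hW
      refine Set.mem_biUnion hWT ⟨W.2.primeIdealOf ⟨η i, hiW⟩, ?_, W.2.fromSpec_primeIdealOf ⟨η i, hiW⟩⟩
      exact ⟨⟨inferInstance, (mem_support_iff_le 𝓩 W hiW).mp hiZ⟩, fun Q hQ hQp => hmin W i hiW Q hQ.1 hQ.2 hQp⟩
  choose rep hrep using fun p : hfin.toFinset => ((hfin.mem_toFinset.mp p.2 : ∃ i, η i = p.1 ∧ p.1 ∈ 𝓩.support))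
  let s : Finset I := Finset.univ.image rep
  have hinj : ∀ i ∈ s, ∀ j ∈ s, η i = η j → i = j := by
    simp only [s, Finset.mem_image, Finset.mem_univ, true_and]
    rintro _ ⟨p, rfl⟩ _ ⟨p', rfl⟩ h
    rw [(hrep p).1, (hrep p').1] at h
    rw [Subtype.ext h]
  let a : I →₀ ℕ := Finsupp.onFinset s (fun i => if i ∈ s then n i else 0)
    (fun i h => by by_contra hi; exact h (if_neg hi))
  have hpow0 : ∀ i, 𝓓 i ^ 0 = 1 := fun i => Scheme.IdealSheafData.ext (by
    rw [Scheme.IdealSheafData.ideal_pow, pow_zero]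
    funext W
    exact Ideal.one_eq_top)
  have hprod : ∀ x, gI (a.prod (fun i n => 𝓓 i ^ n)) x = ∏ i ∈ s, gI (𝓓 i) x ^ n i := fun x => by
    rw [Finsupp.onFinset_prod _ hpow0, gI_prod]
    exact Finset.prod_congr rfl fun i hi => by rw [if_pos hi]
  have hle : ∀ (x : X) (t : Finset I), t ⊆ s →
      gI 𝓩 x ≤ ∏ i ∈ t, gI (𝓓 i) x ^ n i ∧ ∃ π, ∏ i ∈ t, gI (𝓓 i) x ^ n i = Ideal.span {π} := by
    intro x t
    induction t using Finset.induction_on with
    | empty =>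
      exact fun _ => ⟨by rw [Finset.prod_empty, Ideal.one_eq_top]; exact le_top,
        1, by rw [Finset.prod_empty, Ideal.one_eq_top, Ideal.span_singleton_one]⟩
    | insert i t hit ih =>
      intro hts
      obtain ⟨h1, π, hπ⟩ := ih fun j hj => hts (Finset.mem_insert_of_mem hj)
      rw [Finset.prod_insert hit]
      by_cases hx : x ∈ (𝓓 i).support
      swap
      · rw [(gI_eq_top_iff (𝓓 i) x).mpr hx, Ideal.top_pow, Ideal.top_mul]
        exact ⟨h1, π, hπ⟩
      obtain ⟨d, -, hd⟩ := exists_span_gI (𝓓 i) (hD i) x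
      refine ⟨fun f hf => ?_, d ^ n i * π, by
        rw [hd, hπ, Ideal.span_singleton_pow, Ideal.span_singleton_mul_span_singleton]⟩
      obtain ⟨c, rfl⟩ := Ideal.mem_span_singleton.mp (hπ.le (h1 hf))
      have hsp := gen_specializes (𝓓 i) hx
      let σ := (X.presheaf.stalkSpecializes hsp).hom
      have hπu : IsUnit (σ π) := by
        rw [← Ideal.span_singleton_eq_top, ← Set.image_singleton, ← Ideal.map_span, ← hπ,
          ← Ideal.mapHom_apply, map_prod, ← Ideal.one_eq_top]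
        refine Finset.prod_eq_one fun j hj => ?_
        rw [map_pow, Ideal.mapHom_apply, map_stalkSpecializes_gI (𝓓 j) hsp,
          (gI_eq_top_iff (𝓓 j) _).mpr fun hm => hit (hinj i (hts (Finset.mem_insert_self i t)) j
            (hts (Finset.mem_insert_of_mem hj)) (hsame i j hm).symm ▸ hj), Ideal.top_pow, Ideal.one_eq_top]
      have hσf : σ (π * c) ∈ gI 𝓩 (η i) :=
        (map_stalkSpecializes_gI 𝓩 hsp).le (Ideal.mem_map_of_mem σ hf)
      rw [map_mul, hn i, Ideal.unit_mul_mem_iff_mem _ hπu] at hσf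
      rw [mul_comm π c]
      refine Ideal.mul_mem_mul (mem_gI_pow_of_germ_gen (𝓓 i) (hD i) hx (n i) c hσf) ?_
      rw [hπ]
      exact Ideal.mem_span_singleton_self π
  refine ⟨a, le_of_gI_le _ _ fun x => by rw [hprod]; exact (hle x s subset_rfl).1,
    ⨆ W : {W : X.affineOpens // (a.prod (fun i n => 𝓓 i ^ n)).ideal W = 𝓩.ideal W}, W.1.1, ?_, ?_⟩
  · set U : X.Opens := ⨆ W : {W : X.affineOpens // (a.prod (fun i n => 𝓓 i ^ n)).ideal W = 𝓩.ideal W}, W.1.1
    have hU : ∀ x ∈ U, gI (a.prod (fun i n => 𝓓 i ^ n)) x = gI 𝓩 x := fun x hx => by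
      obtain ⟨W, hW⟩ := Opens.mem_iSup.mp hx
      rw [gI_eq _ W.1 hW, gI_eq _ W.1 hW, W.2]
    refine Scheme.IdealSheafData.ext (funext fun V => ?_)
    rw [Scheme.IdealSheafData.ideal_comap_of_isOpenImmersion, Scheme.IdealSheafData.ideal_comap_of_isOpenImmersion]
    congr 1
    have hsub : U.ι ''ᵁ V.1 ≤ U := (U.ι.image_mono le_top).trans U.ι_image_top.le
    exact le_antisymm
      (ideal_le_of_gI_le _ _ ⟨U.ι ''ᵁ V.1, V.2.image_of_isOpenImmersion U.ι⟩ fun x hx => (hU x (hsub hx)).le)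
      (ideal_le_of_gI_le _ _ ⟨U.ι ''ᵁ V.1, V.2.image_of_isOpenImmersion U.ι⟩ fun x hx => (hU x (hsub hx)).ge)
  · rintro z ⟨hzZ, hzU⟩
    by_contra hdim
    rcases hcover hzZ with h | h
    · exact hdim (two_le_ringKrullDim hZ' hcodim h)
    obtain ⟨i, hi⟩ := Set.mem_iUnion.mp h
    let W := aff z
    have hzW : z ∈ W.1 := mem_aff z
    have hiW : η i ∈ W.1 := (gen_specializes (𝓓 i) hi).mem_open W.1.2 hzW
    have hzi : η i = z := by
      by_contra hne'
      apply hdim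
      letI := TopCat.Presheaf.algebra_section_stalk X.presheaf (⟨z, hzW⟩ : W.1)
      haveI := W.2.isLocalization_stalk ⟨z, hzW⟩
      haveI : IsNoetherianRing Γ(X, W.1) := IsLocallyNoetherian.component_noetherian (X := X) W
      rw [IsLocalization.AtPrime.ringKrullDim_eq_height (W.2.primeIdealOf ⟨z, hzW⟩).asIdeal (X.presheaf.stalk z)]
      have hlt : (W.2.primeIdealOf ⟨η i, hiW⟩).asIdeal < (W.2.primeIdealOf ⟨z, hzW⟩).asIdeal := by
        refine lt_of_le_of_ne ((InvExtend.specializes_iff W.2 hzW hiW).mp (gen_specializes (𝓓 i) hi)) fun he => hne' ?_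
        exact (W.2.fromSpec_primeIdealOf ⟨η i, hiW⟩).symm.trans
          ((congrArg W.2.fromSpec (PrimeSpectrum.ext he)).trans (W.2.fromSpec_primeIdealOf ⟨z, hzW⟩))
      have h1 := ringKrullDim_gen (𝓓 i) (hD i)
      letI := TopCat.Presheaf.algebra_section_stalk X.presheaf (⟨η i, hiW⟩ : W.1)
      haveI := W.2.isLocalization_stalk ⟨η i, hiW⟩
      rw [IsLocalization.AtPrime.ringKrullDim_eq_height (W.2.primeIdealOf ⟨η i, hiW⟩).asIdeal
        (X.presheaf.stalk (gen (𝓓 i)))] at h1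
      have h1' : (W.2.primeIdealOf ⟨η i, hiW⟩).asIdeal.height = 1 := WithBot.coe_inj.mp h1
      have h2 := Ideal.height_strict_mono_of_isPrime_of_isPrime hlt
      rw [h1'] at h2
      exact WithBot.coe_le_coe.mpr (one_add_one_eq_two.ge.trans (Order.add_one_le_of_lt h2))
    subst hzi
    let j := rep ⟨η i, hfin.mem_toFinset.mpr ⟨i, rfl, hzZ⟩⟩
    have hj : η j = η i := (hrep ⟨η i, hfin.mem_toFinset.mpr ⟨i, rfl, hzZ⟩⟩).1
    have hjs : j ∈ s := Finset.mem_image.mpr ⟨_, Finset.mem_univ _, rfl⟩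
    have heq : gI (a.prod (fun i n => 𝓓 i ^ n)) (η i) = gI 𝓩 (η i) := by
      rw [hprod, ← hj, hn j, ← gI_gen (𝓓 j)]
      refine Finset.prod_eq_single (f := fun i => gI (𝓓 i) (η j) ^ n i) j (fun k hk hkj => ?_) (absurd hjs)
      rw [(gI_eq_top_iff (𝓓 k) _).mpr fun hm => hkj (hinj k hk j hjs (hsame j k hm)), Ideal.top_pow,
        Ideal.one_eq_top]
    obtain ⟨f₁, hf₁, hm₁⟩ := exists_affine_ideal_le _ _ W hzW heq.le
    obtain ⟨f₂, hf₂, hm₂⟩ := exists_affine_ideal_le _ _ W hzW heq.ge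
    let V : X.affineOpens := ⟨X.basicOpen (f₁ * f₂), W.2.basicOpen _⟩
    refine hzU (Opens.mem_iSup.mpr ⟨⟨V, ?_⟩, by rw [show V.1 = _ from X.basicOpen_mul f₁ f₂]; exact ⟨hf₁, hf₂⟩⟩)
    let r := (X.presheaf.map (homOfLE (X.basicOpen_le (f₁ * f₂))).op).hom
    have hu : IsUnit (r f₁) ∧ IsUnit (r f₂) := by
      have h : IsUnit (r (f₁ * f₂)) := RingedSpace.isUnit_res_basicOpen _ (f₁ * f₂)
      rw [map_mul] at h
      exact IsUnit.mul_iff.mp h
    rw [← (a.prod fun i n => 𝓓 i ^ n).map_ideal' (U := V) (V := W) (homOfLE (X.basicOpen_le (f₁ * f₂))).op,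
      ← 𝓩.map_ideal' (U := V) (V := W) (homOfLE (X.basicOpen_le (f₁ * f₂))).op]
    refine le_antisymm (Ideal.map_le_iff_le_comap.mpr fun b hb => ?_) (Ideal.map_le_iff_le_comap.mpr fun b hb => ?_)
    · have h := Ideal.mem_map_of_mem r (hm₁ b hb)
      rw [map_mul] at h
      exact (Ideal.unit_mul_mem_iff_mem _ hu.1).mp h
    · have h := Ideal.mem_map_of_mem r (hm₂ b hb)
      rw [map_mul] at h
      exact (Ideal.unit_mul_mem_iff_mem _ hu.2).mp h

end Groth.Agent.DivCodimTwo
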